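import Cfsg.Agent.Lib.H2.TCHND.Data
import Cfsg.Agent.Lib.H35.TC
set_option autoImplicit false
set_option maxRecDepth 100000
set_option linter.all false
namespace H2.TCHND
open H35.TC
/-- letters -/
inductive Lt | x | t
  deriving DecidableEq
/-- inverse letter -/
def inv : Lt → Lt
  | .x => .x
  | .t => .t
/-- table functions -/
noncomputable def T : Lt → ℕ → ℕ
  | .x => T_x
  | .t => T_t
/-- decoding of letter codes -/
def lt : ℕ → Lt
  | 0 => .x
  | _ => .t
/-- Coxeter matrix (0: no relation) -/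
def mm : Lt → Lt → ℕ
  | .x, .x => 1
  | .x, .t => 12
  | .t, .x => 12
  | .t, .t => 1
/-- extra relators `w ^ n` -/
def extra : List (List Lt × ℕ) := [
  ]
/-- relators -/
def rels : List (List Lt) := mkRels [(.x, .t), (.x, .x), (.t, .t)] mm extra
/-- subgroup words -/
def subs : List (List Lt) := [
  ]
noncomputable def dp_x_0 (j u : ℕ) : Bool :=
  Bool.rec (motive := fun _ => Bool) (lF1 T_x M (Nat.sub (T_x u) (Nat.mod (T_x u) M)) (Nat.mod (T_x u) M) u) (lF [T_t, T_x, T_t, T_x, T_t, T_x, T_t, T_x, T_t, T_x, T_t, T_x, T_t, T_x, T_t, T_x, T_t, T_x, T_t, T_x, T_t, T_x, T_t] M (Nat.sub (T_x u) (Nat.mod (T_x u) M)) (Nat.mod (T_x u) M) u) (Nat.ble (nat_lit 3) j)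
noncomputable def disp_x (j u : ℕ) : Bool :=
  Bool.rec (motive := fun _ => Bool) (lDef P (nat_lit 0) (Nat.mod (T_x u) M) u) (Bool.rec (motive := fun _ => Bool) (lDef P (nat_lit 0) u (Nat.mod (T_x u) M)) (dp_x_0 j u) (Nat.ble (nat_lit 2) j)) (Nat.ble (nat_lit 1) j)
noncomputable def chk_x (j u : ℕ) : Bool :=
  Bool.rec (motive := fun _ => Bool) (disp_x j u) (Nat.ble (Nat.succ (MG u)) A) (Nat.ble A (T_x u))
noncomputable def disp_t (j u : ℕ) : Bool :=
  Bool.rec (motive := fun _ => Bool) (lDef P (nat_lit 1) (Nat.mod (T_t u) M) u) (lDef P (nat_lit 1) u (Nat.mod (T_t u) M)) (Nat.ble (nat_lit 1) j)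
noncomputable def chk_t (j u : ℕ) : Bool :=
  Bool.rec (motive := fun _ => Bool) (disp_t j u) (Nat.ble (Nat.succ (MG u)) A) (Nat.ble A (T_t u))
noncomputable def chkM (u : ℕ) : Bool := Nat.ble A (MG u)
noncomputable def chkN (u : ℕ) : Bool :=
  band (chk_x (Nat.land (Nat.shiftRight (RS u) (nat_lit 0)) (nat_lit 15)) u) (band (chk_t (Nat.land (Nat.shiftRight (RS u) (nat_lit 4)) (nat_lit 15)) u) (chkM u))
noncomputable def chkP (u : ℕ) : Bool := Bool.rec (motive := fun _ => Bool) (chkN u) true (Nat.ble M u)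
noncomputable def liveP (u : ℕ) : Bool := Bool.rec (motive := fun _ => Bool) (Nat.ble A (MG u)) false (Nat.ble M u)
end H2.TCHND
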