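import Mathlib.Init
set_option autoImplicit false
set_option maxRecDepth 100000
set_option linter.all false
namespace H2.TCHND
noncomputable def T_x_0 (i : Nat) : Nat := Nat.land (Nat.shiftRight (nat_lit 0x2e47131215140f0e11100b0a0d0c07060908030205040001) (Nat.mul (nat_lit 8) (Nat.land i (nat_lit 4095)))) (nat_lit 255)
noncomputable abbrev T_x : Nat → Nat := T_x_0
noncomputable def T_t_0 (i : Nat) : Nat := Nat.land (Nat.shiftRight (nat_lit 0x15141716111013120d0c0f0e09080b0a0504070601000302) (Nat.mul (nat_lit 8) (Nat.land i (nat_lit 4095)))) (nat_lit 255)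
noncomputable abbrev T_t : Nat → Nat := T_t_0
noncomputable def P_0 (i : Nat) : Nat := Nat.land (Nat.shiftRight (nat_lit 0xa8d06612088c05e0e068b0560a048a04e060289046020088040000) (Nat.mul (nat_lit 9) (Nat.land i (nat_lit 2047)))) (nat_lit 511)
noncomputable abbrev P : Nat → Nat := P_0
noncomputable def MG_0 (i : Nat) : Nat := Nat.land (Nat.shiftRight (nat_lit 0xffffffffffffffffffffffffffffffffffffffffffffffff) (Nat.mul (nat_lit 8) (Nat.land i (nat_lit 4095)))) (nat_lit 255)
noncomputable abbrev MG : Nat → Nat := MG_0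
noncomputable def RS_0 (i : Nat) : Nat := Nat.land (Nat.shiftRight (nat_lit 0x131201011010010110100101101001011010010110100100) (Nat.mul (nat_lit 8) (Nat.land i (nat_lit 4095)))) (nat_lit 255)
noncomputable abbrev RS : Nat → Nat := RS_0
noncomputable def MR_0 (i : Nat) : Nat := Nat.land (Nat.shiftRight (nat_lit 0x0) (Nat.mul (nat_lit 1) (Nat.land i (nat_lit 32767)))) (nat_lit 1)
noncomputable abbrev MR : Nat → Nat := MR_0
/-- number of nodes -/
abbrev M : Nat := 24
/-- absent threshold -/
abbrev A : Nat := 255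
end H2.TCHND
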